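import Cfsg.Agent.Lib.Recognition.G2Four.Model

/-!
Six involutions of `G₂(4)` as products of root elements, and root elements as products of them.
-/

set_option autoImplicit false

namespace CfsgLib.Presented.SuzG2

/-- The six elements as products of root elements. -/
def xw : List (List (Fin 12 × Fin 4)) := [[(0, 1)],
  [(0, 2), (9, 2), (1, 1), (10, 2), (1, 1), (9, 2), (0, 2)],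
  [(4, 2), (5, 1), (4, 2), (0, 2)],
  [(7, 3), (0, 1)],
  [(1, 1), (4, 2), (7, 3), (4, 2), (1, 1)],
  [(0, 3)]]

/-- The root elements as products of the six. -/
def gw : List (List ℕ) := [[],
  [0],
  [0, 5],
  [5],
  [],
  [0, 3, 2, 3, 5],
  [1, 3, 2, 5, 1, 0, 1, 2, 1, 3, 5, 1],
  [0, 1, 3, 2, 1, 5, 1, 0, 1, 2, 3, 5, 1],
  [],
  [1, 4, 3, 2, 1, 0, 1, 0, 2, 5, 1, 2, 3, 2, 4, 3, 2, 1, 5, 4, 3, 0, 1, 2, 3, 4, 1, 0, 1],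
  [1, 2, 3, 2, 1, 0, 5, 1, 2, 3, 2, 4, 3, 2, 1, 5, 1, 0, 1, 2, 3, 2, 1, 0],
  [1, 0, 5, 1, 0, 2, 3, 2, 1, 0, 5, 1, 2, 3, 2, 4, 3, 2, 1, 5, 1, 0, 1, 2, 3, 2, 0, 1, 5, 0, 1],
  [],
  [1, 2, 4, 3, 2, 1, 0, 5, 1, 2, 3, 2, 4, 3, 2, 1, 5, 1, 0, 1, 2, 3, 4, 2, 1, 0],
  [1, 0, 1, 3, 2, 1, 5, 1, 0, 2, 1, 3, 2, 3, 4, 3, 2, 3, 0, 1, 2, 0, 1, 5, 1, 2, 3, 1, 0, 1, 0],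
  [1, 3, 2, 1, 0, 1, 0, 2, 5, 1, 2, 3, 2, 4, 3, 2, 1, 5, 4, 3, 0, 1, 2, 3, 1, 0, 1],
  [],
  [1, 0, 1, 0, 3, 2, 1, 3, 2, 3, 4, 3, 2, 3, 1, 2, 3, 0, 1, 0, 1],
  [2, 3, 4, 3, 2],
  [1, 0, 3, 2, 1, 0, 1, 3, 2, 3, 4, 3, 2, 3, 1, 0, 1, 2, 3, 0, 1],
  [],
  [4, 3, 2, 3, 4, 5],
  [1, 4, 3, 2, 5, 1, 0, 1, 2, 3, 4, 5, 1, 0],
  [1, 4, 3, 2, 1, 5, 1, 0, 1, 2, 1, 3, 5, 4, 1, 0],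
  [],
  [2, 1, 3, 2, 1, 0, 1, 2, 5, 1, 0, 1, 2, 3, 1, 2],
  [0, 2, 1, 3, 2, 1, 5, 1, 0, 2, 3, 2],
  [2, 1, 0, 1, 3, 2, 3, 5, 1, 0, 1, 2],
  [],
  [2, 1, 0, 4, 3, 2, 1, 0, 1, 3, 2, 3, 4, 3, 2, 3, 0, 1, 0, 1, 2, 3, 4, 0, 1, 2],
  [2, 1, 0, 1, 0, 4, 3, 2, 1, 3, 2, 3, 4, 3, 2, 3, 0, 1, 2, 3, 4, 0, 1, 0, 1, 2],
  [0, 3],
  [],
  [2, 1, 4, 3, 2, 1, 3, 4, 5, 1, 0, 1, 2, 3, 2, 0, 1, 0, 1, 5, 4, 3, 1, 2, 3, 4, 1, 2],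
  [1, 5, 1, 0, 1, 2, 1, 3, 2, 1, 0, 3, 4, 3, 1, 2, 3, 2, 1, 5, 2, 3, 0, 1, 2, 3, 0],
  [2, 4, 3, 2, 1, 0, 3, 4, 5, 1, 2, 3, 2, 0, 1, 5, 4, 3, 0, 1, 2, 3, 4, 2],
  [],
  [2, 1, 0, 3, 2, 3, 4, 5, 1, 0, 2, 3, 2, 1, 5, 4, 3, 2, 3, 0, 1, 2],
  [2, 1, 4, 5, 1, 0, 1, 0, 2, 3, 2, 1, 0, 1, 5, 4, 1, 2],
  [2, 1, 3, 2, 5, 1, 0, 2, 1, 3, 2, 3, 4, 3, 2, 3, 0, 1, 2, 0, 1, 5, 2, 3, 1, 2],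
  [],
  [2, 3, 2, 1, 0, 4, 3, 2, 1, 5, 1, 2, 3, 4, 1, 0, 1, 2, 3, 2],
  [0, 2, 3, 2, 1, 4, 3, 2, 3, 4, 5, 1, 2, 3, 2, 0],
  [2, 3, 2, 4, 3, 2, 1, 0, 1, 2, 5, 1, 0, 1, 2, 3, 4, 2, 3, 2],
  [],
  [0, 2, 3, 2, 1, 0, 5, 1, 0, 2, 3, 2],
  [0, 2, 3, 2, 1, 5, 1, 0, 2, 3, 2],
  [0, 2, 3, 2, 1, 0, 1, 0, 2, 3, 2]]

end CfsgLib.Presented.SuzG2
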