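import Cfsg.Agent.Lib.Presented.SuzOrder
import Cfsg.Agent.Lib.Presented.SuzG2.Data

/-!
The first subgroup of the presented Suzuki group is `G₂(4)`: the graph of the identification
satisfies the relations, and the coset chain bounds its order.
-/

set_option autoImplicit false
set_option maxRecDepth 100000

namespace CfsgLib.Presented.SuzG2

open CfsgLib.Recognition.G2Four

/-- The relations among the first six generators. -/
def relsH : List (List ℕ) := SuzASeed.relWords

/-- The chain of enumerations bounds any group satisfying these relations. -/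
theorem card_le {G : Type*} [Group G] {ev : ℕ → G} (ev_one : ev SuzCert.alphabet.eps = 1)
    (ev_inv : ∀ x, x < SuzCert.alphabet.eps → ev (SuzCert.alphabet.invl x) * ev x = 1)
    (rels : ∀ w ∈ relsH, evW ev w = 1) :
    Nat.card (genBy ev [0, 1, 2, 3, 4, 5]) ≠ 0 ∧ Nat.card (genBy ev [0, 1, 2, 3, 4, 5]) ≤ 251596800 := by
  have hP : evW ev [0, 1, 2, 0, 1, 2, 0, 1, 2, 0, 1, 2, 0, 1, 2] = 1 := by
    have h := mem_of_fix (H := (⊥ : Subgroup G)) (SuzPSeed.loop0 (Enum.interp_sub (ev := ev) (A := SuzCert.alphabet)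
      (emb := [0, 1, 2, 3]) ev_one ev_inv (by decide +kernel) (by decide +kernel) (rels_of_check rels (by decide +kernel))
      (fun w hw => by simp [SuzPSeed.enum, SuzPSeed.subWords] at hw)))
    rw [Subgroup.mem_bot, ← evW_map] at h
    exact h
  have known : ∀ w ∈ relsH ++ [[0, 1, 2, 0, 1, 2, 0, 1, 2, 0, 1, 2, 0, 1, 2]], evW ev w = 1 := by
    intro w hw
    rcases List.mem_append.1 hw with h | h
    · exact rels w h
    · rw [List.mem_singleton.1 h]
      exact hP
  have sA : evW (subEv ev SuzCert.alphabet.eps [0, 1, 2, 3, 4, 5]) [5, 1, 0, 2, 1, 3, 2, 1, 4, 3, 2, 1, 0, 5, 3, 0, 1, 0, 1, 2, 3, 4, 1, 2, 3, 2, 0, 1, 5] ∈ genBy ev [0, 1, 2, 3, 4] :=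
    mem_of_fix (SuzASeed.loop0 (Enum.interp_sub ev_one ev_inv (by decide +kernel) (by decide +kernel)
      (rels_of_check rels (by decide +kernel)) (subs_of_check (seeds := []) (by simp) (by decide +kernel))))
  have sB : evW (subEv ev SuzCert.alphabet.eps [0, 1, 2, 3, 4]) [4, 3, 2, 1, 0, 1, 0, 3, 2, 1, 3, 2, 3, 1, 3, 2, 3, 1, 2, 3, 0, 1, 0, 1, 2, 3, 4] ∈ genBy ev [0, 1, 2, 3] :=
    mem_of_fix (SuzBSeed.loop0 (Enum.interp_sub ev_one ev_inv (by decide +kernel) (by decide +kernel)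
      (rels_of_check rels (by decide +kernel)) (subs_of_check (seeds := []) (by simp) (by decide +kernel))))
  have sC : evW (subEv ev SuzCert.alphabet.eps [0, 1, 2, 3]) [3, 2, 1, 0, 3, 2, 1, 0, 1, 2, 1, 0, 1, 2, 3, 0, 1, 2, 3] ∈ genBy ev [0, 1, 2] :=
    mem_of_fix (SuzCSeed.loop0 (Enum.interp_sub ev_one ev_inv (by decide +kernel) (by decide +kernel)
      (rels_of_check rels (by decide +kernel)) (subs_of_check (seeds := []) (by simp) (by decide +kernel))))
  have hA : (genBy ev [0, 1, 2, 3, 4]).relIndex (genBy ev [0, 1, 2, 3, 4, 5]) ≠ 0 ∧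
      (genBy ev [0, 1, 2, 3, 4]).relIndex (genBy ev [0, 1, 2, 3, 4, 5]) ≤ SuzACert.cert.R.N :=
    relIndex_le_of_subCert (A := SuzCert.alphabet) (emb := [0, 1, 2, 3, 4, 5]) SuzACert.cert_ok ev_one ev_inv
      (by decide +kernel) (by decide +kernel) (by decide +kernel) (rels_of_check rels (by decide +kernel))
      (subs_of_check (seeds := [[5, 1, 0, 2, 1, 3, 2, 1, 4, 3, 2, 1, 0, 5, 3, 0, 1, 0, 1, 2, 3, 4, 1, 2, 3, 2, 0, 1, 5]])
        (fun w hw => List.mem_singleton.1 hw ▸ sA) (by decide +kernel))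
  have hB : (genBy ev [0, 1, 2, 3]).relIndex (genBy ev [0, 1, 2, 3, 4]) ≠ 0 ∧
      (genBy ev [0, 1, 2, 3]).relIndex (genBy ev [0, 1, 2, 3, 4]) ≤ SuzBCert.cert.R.N :=
    relIndex_le_of_subCert (A := SuzCert.alphabet) (emb := [0, 1, 2, 3, 4]) SuzBCert.cert_ok ev_one ev_inv
      (by decide +kernel) (by decide +kernel) (by decide +kernel) (rels_of_check rels (by decide +kernel))
      (subs_of_check (seeds := [[4, 3, 2, 1, 0, 1, 0, 3, 2, 1, 3, 2, 3, 1, 3, 2, 3, 1, 2, 3, 0, 1, 0, 1, 2, 3, 4]])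
        (fun w hw => List.mem_singleton.1 hw ▸ sB) (by decide +kernel))
  have hC : (genBy ev [0, 1, 2]).relIndex (genBy ev [0, 1, 2, 3]) ≠ 0 ∧
      (genBy ev [0, 1, 2]).relIndex (genBy ev [0, 1, 2, 3]) ≤ SuzCCert.cert.R.N :=
    relIndex_le_of_subCert (A := SuzCert.alphabet) (emb := [0, 1, 2, 3]) SuzCCert.cert_ok ev_one ev_inv
      (by decide +kernel) (by decide +kernel) (by decide +kernel) (rels_of_check rels (by decide +kernel))
      (subs_of_check (seeds := [[3, 2, 1, 0, 3, 2, 1, 0, 1, 2, 1, 0, 1, 2, 3, 0, 1, 2, 3]])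
        (fun w hw => List.mem_singleton.1 hw ▸ sC) (by decide +kernel))
  have hD : (genBy ev []).relIndex (genBy ev [0, 1, 2]) ≠ 0 ∧
      (genBy ev []).relIndex (genBy ev [0, 1, 2]) ≤ SuzDCert.cert.R.N :=
    relIndex_le_of_subCert (A := SuzCert.alphabet) (emb := [0, 1, 2]) SuzDCert.cert_ok ev_one ev_inv
      (by decide +kernel) (by decide +kernel) (by decide +kernel) (rels_of_check known (by decide +kernel))
      (subs_of_check (seeds := []) (by simp) (by decide +kernel))
  exact card_le_mul (genBy_mono ev (by decide)) (card_le_mul (genBy_mono ev (by decide))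
    (card_le_mul (genBy_mono ev (by decide)) (card_le_mul (genBy_mono ev (by decide)) (card_bot_le ev) hD) hC) hB) hA

/-- The matrix of a letter. -/
def xMat (i : ℕ) : Matrix (Fin 6) (Fin 6) F4 :=
  ((xw.getD i []).map fun p => a6 (p.1, ⟨p.2⟩)).foldl (· * ·) 1

/-- The element of a letter. -/
def xGrp (i : ℕ) : grp :=
  ((xw.getD i []).map fun p => (⟨(a6GL (p.1, ⟨p.2⟩), x14GL (p.1, ⟨p.2⟩)),
    Subgroup.subset_closure ⟨(p.1, ⟨p.2⟩), rfl⟩⟩ : grp)).prod

/-- The six-dimensional matrix of an element. -/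
def mat6 : grp →* Matrix (Fin 6) (Fin 6) F4 :=
  (Units.coeHom _).comp ((MonoidHom.fst _ _).comp grp.subtype)

theorem mat6_injective : Function.Injective mat6 := fun _ _ h => grp_fst_injective (Units.ext h)

theorem mat6_xGrp (i : ℕ) : mat6 (xGrp i) = xMat i := by
  rw [xGrp, map_list_prod, List.map_map, List.prod_eq_foldl]
  rfl

theorem mat6_evW (w : List ℕ) : mat6 (evW xGrp w) = (w.map xMat).foldl (· * ·) 1 := by
  rw [evW, map_list_prod, List.map_map, List.prod_eq_foldl]
  congr 1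
  exact List.map_congr_left fun i _ => mat6_xGrp i

theorem sq_check : ∀ i : Fin 8, xMat i.val * xMat i.val = 1 := by decide +kernel

theorem rel_check : ∀ i : Fin 18, ((relsH.getD i.val []).map xMat).foldl (· * ·) 1 = 1 := by
  decide +kernel

theorem rel_length : relsH.length = 18 := by decide +kernel

theorem gen_check : ∀ r : Fin 12, ∀ t : Fin 4,
    ((gw.getD (4 * r.val + t.val) []).map xMat).foldl (· * ·) 1 = a6 (r, ⟨t⟩) := by
  decide +kernel

theorem gw_letters : ∀ i < 48, ∀ x ∈ gw.getD i [], x ∈ [0, 1, 2, 3, 4, 5] := by decide +kernel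

theorem xGrp_rels : ∀ w ∈ relsH, evW xGrp w = 1 := by
  intro w hw
  obtain ⟨n, hn, rfl⟩ := List.getElem_of_mem hw
  refine mat6_injective ?_
  rw [mat6_evW, map_one]
  have h := rel_check ⟨n, rel_length ▸ hn⟩
  rwa [List.getD_eq_getElem _ _ hn] at h

theorem gen_word (r : Fin 12) (t : F4) :
    (⟨(a6GL (r, t), x14GL (r, t)), Subgroup.subset_closure ⟨(r, t), rfl⟩⟩ : grp) =
      evW xGrp (gw.getD (4 * r.val + t.v.val) []) := by
  refine mat6_injective ?_
  refine Eq.trans ?_ (mat6_evW _).symm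
  exact (gen_check r t.v).symm

theorem genBy_xGrp : genBy xGrp [0, 1, 2, 3, 4, 5] = ⊤ := by
  have hle : grp ≤ (genBy xGrp [0, 1, 2, 3, 4, 5]).map grp.subtype := by
    refine (Subgroup.closure_le _).2 ?_
    rintro _ ⟨⟨r, t⟩, rfl⟩
    have hi : 4 * r.val + t.v.val < 48 := by
      have := r.2; have := t.v.2; omega
    refine ⟨evW xGrp (gw.getD (4 * r.val + t.v.val) []), ?_, ?_⟩
    · refine list_prod_mem fun x hx => ?_
      obtain ⟨i, hi', rfl⟩ := List.mem_map.1 hx
      exact mem_genBy xGrp (gw_letters _ hi i hi')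
    · rw [← gen_word r t]
      rfl
  refine eq_top_iff.2 fun g _ => ?_
  obtain ⟨y, hy, e⟩ := hle g.2
  rwa [← grp.subtype_injective e]

/-- The value of a letter in the product. -/
noncomputable def evP (x : ℕ) : Cfsg.Spor.Suz × grp := (if x < 6 then SuzCosets.ev x else 1, xGrp x)

theorem alph : SuzCert.alphabet.eps = 7 ∧ ∀ x < 7, SuzCert.alphabet.invl x = x := by decide +kernel

theorem evP_one : evP SuzCert.alphabet.eps = 1 := by
  rw [alph.1]
  exact Prod.ext rfl rfl

theorem evP_inv : ∀ x, x < SuzCert.alphabet.eps → evP (SuzCert.alphabet.invl x) * evP x = 1 := by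
  intro x hx
  have h := SuzCosets.ev_inv x hx
  rw [alph.1] at hx
  rw [alph.2 x hx] at h ⊢
  refine Prod.ext ?_ (mat6_injective ?_)
  · show (if x < 6 then SuzCosets.ev x else 1) * (if x < 6 then SuzCosets.ev x else 1) = 1
    split
    · exact h
    · exact one_mul 1
  · show mat6 (xGrp x * xGrp x) = mat6 1
    rw [map_mul, map_one, mat6_xGrp]
    exact sq_check ⟨x, by omega⟩

theorem relsH_sub : ∀ w ∈ relsH, w ∈ SuzCert.relWords ∧ ∀ x ∈ w, x < 6 := by decide +kernel

theorem evP_rels : ∀ w ∈ relsH, evW evP w = 1 := by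
  intro w hw
  refine Prod.ext ?_ ?_
  · rw [evW, Prod.fst_one]
    show MonoidHom.fst _ _ (w.map evP).prod = 1
    rw [map_list_prod, List.map_map, ← SuzCosets.rels_hold w (relsH_sub w hw).1, evW]
    congr 1
    exact List.map_congr_left fun x hx => if_pos ((relsH_sub w hw).2 x hx)
  · show MonoidHom.snd _ _ (w.map evP).prod = 1
    rw [map_list_prod, List.map_map]
    exact xGrp_rels w hw

theorem card_H : Nat.card SuzCosets.H = 251596800 := by
  have h := SuzCosets.H.card_mul_index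
  rw [SuzCosets.index_eq, SuzOrder.card_eq] at h
  omega

theorem H_genBy : SuzCosets.H = genBy SuzCosets.ev [0, 1, 2, 3, 4, 5] :=
  SuzCosets.H_eq.trans (closure_letters_eq SuzCosets.ev [0, 1, 2, 3, 4, 5])

/-- The isomorphism. -/
theorem nonempty_equiv : Nonempty (SuzCosets.H ≃* Cfsg.Lie.chevG2.group F4) := by
  obtain ⟨hne, hle⟩ := card_le evP_one evP_inv evP_rels
  have hfin : Finite (genBy evP [0, 1, 2, 3, 4, 5]) := Nat.finite_of_card_ne_zero hne
  have h1 : (genBy evP [0, 1, 2, 3, 4, 5]).map (MonoidHom.fst _ _) = SuzCosets.H := by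
    rw [H_genBy, genBy, genBy, MonoidHom.map_closure, Set.image_image]
    congr 1
    refine Set.image_congr fun x hx => if_pos ?_
    simp at hx
    omega
  have h2 : (genBy evP [0, 1, 2, 3, 4, 5]).map (MonoidHom.snd _ _) = ⊤ := by
    rw [genBy, MonoidHom.map_closure, Set.image_image]
    exact genBy_xGrp
  let f1 : genBy evP [0, 1, 2, 3, 4, 5] →* SuzCosets.H :=
    ((MonoidHom.fst _ _).comp (Subgroup.subtype _)).codRestrict _ fun x =>
      h1 ▸ Subgroup.mem_map_of_mem _ x.2
  let f2 : genBy evP [0, 1, 2, 3, 4, 5] →* grp := (MonoidHom.snd _ _).comp (Subgroup.subtype _)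
  have s1 : Function.Surjective f1 := by
    rintro ⟨y, hy⟩
    rw [← h1] at hy
    obtain ⟨z, hz, rfl⟩ := hy
    exact ⟨⟨z, hz⟩, rfl⟩
  have s2 : Function.Surjective f2 := by
    intro y
    obtain ⟨z, hz, rfl⟩ : y ∈ (genBy evP [0, 1, 2, 3, 4, 5]).map (MonoidHom.snd _ _) := h2 ▸ Subgroup.mem_top y
    exact ⟨⟨z, hz⟩, rfl⟩
  have b1 := s1.bijective_of_nat_card_le (by rw [card_H]; exact hle)
  have b2 := s2.bijective_of_nat_card_le (by rw [card_grp]; exact hle)
  exact ⟨(((MulEquiv.ofBijective f1 b1).symm.trans (MulEquiv.ofBijective f2 b2))).trans equivGroup⟩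

end CfsgLib.Presented.SuzG2
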